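import Cfsg.Agent.H820.J4L.Eleven
import Cfsg.Agent.H860.MaxPGL
import Cfsg.Agent.H860.MaxL32

/-!
# The maximal subgroups of `J4` with a nontrivial normal `p`-subgroup, `p` odd: the end (helper820)
-/

set_option autoImplicit false

namespace Cfsg.Agent.H820.J4L

open Cfsg Subgroup
open Cfsg.Agent.OrdDiv
open Cfsg.Agent.H866.J4Ord Cfsg.Agent.H866.J4Min Cfsg.Agent.H866.OddTools Cfsg.Agent.H866.J4Odd
open Cfsg.Agent.OddOrderLocal.SylIn
open Cfsg.Agent.H860.MaxPGL (transfer)

universe u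

variable {G : Type u} [Group G] [Finite G]

/-- an overgroup of the normalizer of a subgroup of prime order -/
theorem le_of_card {P K : Subgroup G} {n : ℕ} (h1 : Nat.card (normalizer (P : Set G)) = n)
    (h2 : Nat.card (normalizer (P : Set G) ⊓ K : Subgroup G) = n) : normalizer (P : Set G) ≤ K := by
  have h3 : normalizer (P : Set G) ⊓ K = normalizer (P : Set G) :=
    Subgroup.eq_of_le_of_card_ge inf_le_left (by rw [h1, h2])
  rw [← h3]
  exact inf_le_right

/-- a maximal subgroup is not contained in a larger proper subgroup -/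
theorem coatom_card {M K : Subgroup G} (hM : IsCoatom M) (hK : K ≠ ⊤) {g : G}
    (h : M ≤ K.map (MulAut.conj g).toMonoidHom) : Nat.card M = Nat.card K := by
  have h1 : M = K.map (MulAut.conj g).toMonoidHom := by
    by_contra hne
    exact map_conj_ne_top hK g (hM.2 _ (lt_of_le_of_ne h hne))
  rw [h1]
  exact Cfsg.Agent.H859.Transfer.card_map (MulAut.conj g) K

/-- `p = 23` -/
theorem not_23 [IsSimpleGroup G] (hG : ¬ IsMulCommutative G) (hJ : Cfsg.IsOfJankoFourType G) (F : Facts G)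
    (e : Cfsg.Spor.J4 ≃* G) {M R : Subgroup G} (hM : IsCoatom M) (hMR : M = normalizer (R : Set G))
    (hR : Nat.card R = 23) : False := by
  have hp : Nat.Prime 23 := by norm_num
  have f23 : Fact (Nat.Prime 23) := ⟨hp⟩
  obtain ⟨K, hK, ⟨f⟩⟩ := Cfsg.Agent.H860.MaxPGL.part_d hG hJ F e
  have hKc : Nat.card K = 12144 := by
    rw [Nat.card_congr f.toEquiv, Cfsg.Agent.H397.ZAut.card_pgl, ZMod.card]
    norm_num
  obtain ⟨P, hP⟩ := exists_isSyl 23 K
  have hP23 : Nat.card P = 23 := card_of_isSyl hp hP (by rw [hKc]; norm_num) (by rw [hKc]; norm_num)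
  obtain ⟨m, hm, he⟩ := sylow_mod hP
  have h9 : Nat.card (normalizer (P : Set G) ⊓ K : Subgroup G) ∣ 506 := by
    have := Subgroup.card_dvd_of_le (inf_le_left : normalizer (P : Set G) ⊓ K ≤ normalizer (P : Set G))
    rwa [F.n23 P hP23] at this
  rw [hKc] at he
  have ha : Nat.card (normalizer (P : Set G) ⊓ K : Subgroup G) = 506 :=
    solve_mod (n := 506) (p := 23) (a := 506) (by decide +kernel) (by norm_num) h9 hm he
  have hle := le_of_card (n := 506) (by rw [F.n23 P hP23]) ha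
  obtain ⟨g, hg⟩ := over_conj F.card (by norm_num [nJ]) hP23 hle hR
  have h10 := coatom_card hM hK.1 (hMR ▸ hg)
  rw [hKc, hMR, F.n23 R hR] at h10
  norm_num at h10

/-- `p = 31` -/
theorem not_31 [IsSimpleGroup G] (hG : ¬ IsMulCommutative G) (hJ : Cfsg.IsOfJankoFourType G) (F : Facts G)
    (e : Cfsg.Spor.J4 ≃* G) {M R : Subgroup G} (hM : IsCoatom M) (hMR : M = normalizer (R : Set G))
    (hR : Nat.card R = 31) : False := by
  have hp : Nat.Prime 31 := by norm_num
  have f31 : Fact (Nat.Prime 31) := ⟨hp⟩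
  obtain ⟨K, hK, L, Fd, i1, i2, hF, hLn, hL5, ⟨f⟩⟩ := Cfsg.Agent.H860.MaxL32.part_c hG hJ F e
  have n31 : ∀ P : Subgroup G, Nat.card P = 31 → Nat.card (normalizer (P : Set G)) = 310 := fun P hP =>
    (transfer e (fun P hP => Cfsg.Agent.H859.BigNum.data31 hP) hP).2
  have hKc : Nat.card K = 163680 := by
    have h1 := L.card_mul_index
    have h2 := Cfsg.Agent.H277.ClsPsl.card_psl (F := Fd) hF (n := 2) le_rfl
    rw [hL5, Nat.card_congr f.toEquiv] at h1
    norm_num at h2
    rw [h2] at h1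
    exact h1.symm
  obtain ⟨P, hP⟩ := exists_isSyl 31 K
  have hP31 : Nat.card P = 31 := card_of_isSyl hp hP (by rw [hKc]; norm_num) (by rw [hKc]; norm_num)
  obtain ⟨m, hm, he⟩ := sylow_mod hP
  have h9 : Nat.card (normalizer (P : Set G) ⊓ K : Subgroup G) ∣ 310 := by
    have := Subgroup.card_dvd_of_le (inf_le_left : normalizer (P : Set G) ⊓ K ≤ normalizer (P : Set G))
    rwa [n31 P hP31] at this
  rw [hKc] at he
  have ha : Nat.card (normalizer (P : Set G) ⊓ K : Subgroup G) = 310 :=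
    solve_mod (n := 310) (p := 31) (a := 310) (by decide +kernel) (by norm_num) h9 hm he
  have hle := le_of_card (n := 310) (n31 P hP31) ha
  obtain ⟨g, hg⟩ := over_conj F.card (by norm_num [nJ]) hP31 hle hR
  have h10 := coatom_card hM hK.1 (hMR ▸ hg)
  rw [hKc, hMR, n31 R hR] at h10
  norm_num at h10

/-- **Part II.** A maximal subgroup with a nontrivial normal `p`-subgroup, `p` odd, has a nontrivial normal 2-subgroup or
is the normalizer of a Sylow subgroup for one of the primes 11, 29, 37, 43. -/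
theorem odd_local [IsSimpleGroup G] (hG : ¬ IsMulCommutative G) (hJ : Cfsg.IsOfJankoFourType G) (F : Facts G)
    (e : Cfsg.Spor.J4 ≃* G) {p : ℕ} [hp : Fact p.Prime] (hp2 : p ≠ 2) {M R : Subgroup G} (hM : IsCoatom M)
    (hR : R ≠ ⊥) (hRM : R ≤ M) (hn : M ≤ normalizer (R : Set G)) (hRp : IsPGroup p R) :
    (∃ Q : Subgroup G, Q ≠ ⊥ ∧ IsPGroup 2 Q ∧ Q ≤ M ∧ M ≤ normalizer (Q : Set G)) ∨
      (∃ U : Sylow 11 G, M = normalizer ((U : Subgroup G) : Set G)) ∨
      (∃ U : Sylow 29 G, M = normalizer ((U : Subgroup G) : Set G)) ∨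
      (∃ U : Sylow 37 G, M = normalizer ((U : Subgroup G) : Set G)) ∨
      (∃ U : Sylow 43 G, M = normalizer ((U : Subgroup G) : Set G)) := by
  have hMR := eq_normalizer hM hR hRM hn
  have hpd : p ∣ nJ := by
    obtain ⟨j, hj⟩ := IsPGroup.iff_card.1 hRp
    have h1 : j ≠ 0 := by
      rintro rfl
      rw [pow_zero] at hj
      exact hR (Subgroup.card_eq_one.1 hj)
    have h2 := F.dvd R
    rw [hj] at h2
    exact (dvd_pow_self p h1).trans h2
  obtain ⟨k, hk, -⟩ := exists_pair (p := p) (j := 1) valid_lJ hp.out le_rfl (by rw [pow_one]; exact hpd)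
  have hsyl : ¬ p ^ 2 ∣ nJ → ∃ U : Sylow p G, M = normalizer ((U : Subgroup G) : Set G) := by
    intro h
    have h1 := card_of_ea F.card h hR hRp
    obtain ⟨U, hU⟩ := Cfsg.Agent.H866.J4OddEnd.exists_sylow_eq F.card (p := p) (n := 1) h (P := R)
      (by rw [h1, pow_one])
    exact ⟨U, by rw [hU]; exact hMR⟩
  simp only [lJ, List.mem_cons, List.not_mem_nil, or_false, Prod.mk.injEq] at hk
  rcases hk with ⟨rfl, -⟩ | ⟨rfl, -⟩ | ⟨rfl, -⟩ | ⟨rfl, -⟩ | ⟨rfl, -⟩ | ⟨rfl, -⟩ | ⟨rfl, -⟩ | ⟨rfl, -⟩ | ⟨rfl, -⟩ |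
    ⟨rfl, -⟩
  · exact absurd rfl hp2
  · left
    obtain ⟨E, hER, hE, hEn, hEe⟩ := exists_ea hR hn hRp
    have hME := eq_normalizer hM hE (hER.trans hRM) hEn
    obtain ⟨Q, hQ, hQ2, hQN, hNQ⟩ := local_three hG hJ hE hEe
    exact ⟨Q, hQ, hQ2, hME ▸ hQN, hME ▸ hNQ⟩
  · left
    exact local_five_seven hG hJ F.card (Or.inl rfl) hM hR hMR hRp
  · left
    exact local_five_seven hG hJ F.card (Or.inr rfl) hM hR hMR hRp
  · right; left
    obtain ⟨V, hV⟩ := norm_eleven e hR hRp
    refine ⟨V, ?_⟩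
    by_contra hne
    have h1 : normalizer ((V : Subgroup G) : Set G) = ⊤ := hM.2 _ (lt_of_le_of_ne (hMR ▸ hV) hne)
    have h2 : (V : Subgroup G).Normal := Subgroup.normalizer_eq_top_iff.1 h1
    rcases h2.eq_bot_or_eq_top with h3 | h3
    · refine V.ne_bot_of_dvd_card ?_ h3
      rw [F.card]
      norm_num [nJ]
    · have h4 : IsPGroup 11 (⊤ : Subgroup G) := h3 ▸ V.2
      obtain ⟨j, hj⟩ := IsPGroup.iff_card.1 h4
      rw [Subgroup.card_top, F.card] at hj
      have h5 : 2 ∣ 11 ^ j := hj ▸ (by norm_num [nJ])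
      have h6 := Nat.prime_two.dvd_of_dvd_pow h5
      norm_num at h6
  · exact (not_23 hG hJ F e hM hMR (card_of_ea F.card (by norm_num [nJ]) hR hRp)).elim
  · right; right; left
    exact hsyl (by norm_num [nJ])
  · exact (not_31 hG hJ F e hM hMR (card_of_ea F.card (by norm_num [nJ]) hR hRp)).elim
  · right; right; right; left
    exact hsyl (by norm_num [nJ])
  · right; right; right; right
    exact hsyl (by norm_num [nJ])

end Cfsg.Agent.H820.J4L
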