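import Cfsg.Agent.H820.J4L.Odd

/-!
# The normalizers of the nontrivial 11-subgroups of `J4` (helper820)
-/

set_option autoImplicit false

namespace Cfsg.Agent.H820.J4L

open Cfsg Subgroup
open Cfsg.Agent.H859
open Cfsg.Agent.H859.NU (U)
open Cfsg.Agent.H859.SylEleven (N)

universe u

local notation "𝒢" => Cfsg.Spor.J4

/-- the elements of order 11 of a group of order 242 commute -/
theorem comm_of_card_242 {C : Type*} [Group C] [Finite C] (hC : Nat.card C = 242) {y w : C} (hy : y ^ 11 = 1)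
    (hw : w ^ 11 = 1) : y * w = w * y := by
  have f11 : Fact (Nat.Prime 11) := ⟨by norm_num⟩
  obtain ⟨P, hP⟩ := Sylow.exists_subgroup_card_pow_prime 11 (G := C) (n := 2) (by rw [hC]; norm_num)
  have hi : P.index = 2 := by
    have h1 := P.card_mul_index
    rw [hP, hC] at h1
    omega
  have hmem : ∀ x : C, x ^ 11 = 1 → x ∈ P := by
    intro x hx
    have h1 : x ^ 2 ∈ P := Subgroup.sq_mem_of_index_two hi x
    have h2 : x = (x ^ 2) ^ 6 := by
      rw [← pow_mul, show 2 * 6 = 11 + 1 by norm_num, pow_succ, hx, one_mul]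
    rw [h2]
    exact pow_mem h1 6
  have h3 : IsMulCommutative P := IsPGroup.isMulCommutative_of_card_eq_prime_sq (p := 11) hP
  exact congrArg Subtype.val (h3.is_comm.comm ⟨y, hmem y hy⟩ ⟨w, hmem w hw⟩)

theorem comm_in {G : Type*} [Group G] [Finite G] {C : Subgroup G} (hC : Nat.card C = 242) {y w : G} (hyC : y ∈ C)
    (hwC : w ∈ C) (hy : y ^ 11 = 1) (hw : w ^ 11 = 1) : y * w = w * y := by
  have h := comm_of_card_242 hC (y := ⟨y, hyC⟩) (w := ⟨w, hwC⟩) (Subtype.ext hy) (Subtype.ext hw)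
  exact congrArg Subtype.val h

/-- the elements of order 11 of `N(U)` are in `U` -/
theorem mem_U_of_N {w : 𝒢} (hw : w ∈ N) (h11 : w ^ 11 = 1) : w ∈ U := by
  have f11 : Fact (Nat.Prime 11) := ⟨by norm_num⟩
  have hP : IsPGroup 11 (zpowers w) := by
    rintro ⟨_, m, rfl⟩
    refine ⟨1, Subtype.ext ?_⟩
    change (w ^ m) ^ 11 ^ 1 = 1
    rw [pow_one, ← zpow_natCast, ← zpow_mul, mul_comm, zpow_mul, zpow_natCast, h11, one_zpow]
  have hn : zpowers w ≤ normalizer (U : Set 𝒢) := by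
    rw [zpowers_le]
    exact hw
  have hsup : IsPGroup 11 (U ⊔ zpowers w : Subgroup 𝒢) :=
    IsPGroup.to_sup_of_normal_left' SylEleven.isPGroup_U hP hn
  have h4 : (U ⊔ zpowers w : Subgroup 𝒢) = U :=
    (SylEleven.isPGroup_U.toSylow SylEleven.not_dvd_U).is_maximal' hsup le_sup_left
  rw [← h4]
  exact (le_sup_right : zpowers w ≤ U ⊔ zpowers w) (mem_zpowers w)

theorem norm_le {R : Subgroup 𝒢} (hR : R ≠ ⊥) (hRU : R ≤ U) : normalizer (R : Set 𝒢) ≤ N := by
  have f11 : Fact (Nat.Prime 11) := ⟨by norm_num⟩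
  by_cases hRZ : R ≤ zpowers NU.c
  · have h1 : R = zpowers NU.c := by
      apply Subgroup.eq_of_le_of_card_ge hRZ
      have h2 := Subgroup.card_dvd_of_le hRZ
      rw [Nat.card_zpowers, ClassEleven.orderOf_c] at h2 ⊢
      rcases (Nat.dvd_prime (by norm_num)).1 h2 with h3 | h3
      · exact absurd (Subgroup.card_eq_one.1 h3) hR
      · exact h3.ge
    rw [h1]
    exact CentC.normalizer_c_le
  · obtain ⟨y, hyR, hyZ⟩ : ∃ y ∈ R, y ∉ zpowers NU.c := by
      by_contra h0
      push Not at h0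
      exact hRZ h0
    have hy : y ∈ SylEleven.orb N SylEleven.x := by
      rw [SylEleven.orb_eq]
      exact ⟨hRU hyR, hyZ⟩
    obtain ⟨n0, -, hn0⟩ := hy
    have hcard : Nat.card (centralizer ({y} : Set 𝒢)) = 242 := by
      rw [← ClassEleven.card_centralizer_conj (isConj_iff.2 ⟨n0, hn0.symm⟩), SylEleven.card_centralizer_x_eq]
    have hy11 : y ^ 11 = 1 := Heis.pow_p NU.rel (by norm_num) (hRU hyR)
    have hc11 : NU.c ^ 11 = 1 := by
      rw [← ClassEleven.orderOf_c]; exact pow_orderOf_eq_one _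
    have hcy : NU.c ∈ centralizer ({y} : Set 𝒢) := by
      rw [mem_centralizer_singleton_iff]
      exact Heis.w_comm NU.rel (hRU hyR)
    have key : ∀ w ∈ centralizer ({y} : Set 𝒢), IsConj w NU.c → w ∈ zpowers NU.c := by
      intro w hw hwc
      have hw11 : w ^ 11 = 1 := by
        obtain ⟨g, hg⟩ := isConj_iff.1 (isConj_comm.1 hwc)
        rw [← hg, conj_pow, hc11, mul_one, mul_inv_cancel]
      have h1 : NU.c * w = w * NU.c :=
        comm_in hcard hcy hw hc11 hw11
      have h2 : w ∈ N := CentC.D_le (mem_centralizer_singleton_iff.2 h1.symm)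
      have h3 : w ∈ U := mem_U_of_N h2 hw11
      by_contra h4
      have h5 : w ∈ SylEleven.orb N SylEleven.x := by
        rw [SylEleven.orb_eq]
        exact ⟨h3, h4⟩
      obtain ⟨m, -, hm⟩ := h5
      exact ClassEleven.not_isConj ((isConj_iff.2 ⟨m, hm.symm⟩).trans hwc)
    intro n hn
    apply CentC.normalizer_c_le
    have h1 : ∀ m ∈ normalizer (R : Set 𝒢), m * NU.c * m⁻¹ ∈ zpowers NU.c := by
      intro m hm
      apply key
      · have h2 : m⁻¹ * y * m ∈ R := by
          have := (mem_normalizer_iff.1 (inv_mem hm) y).1 hyR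
          rwa [inv_inv] at this
        have h3 : NU.c * (m⁻¹ * y * m) = m⁻¹ * y * m * NU.c := Heis.w_comm NU.rel (hRU h2)
        rw [mem_centralizer_singleton_iff]
        calc m * NU.c * m⁻¹ * y = m * (NU.c * (m⁻¹ * y * m)) * m⁻¹ := by group
          _ = m * (m⁻¹ * y * m * NU.c) * m⁻¹ := by rw [h3]
          _ = y * (m * NU.c * m⁻¹) := by group
      · exact isConj_comm.1 (isConj_iff.2 ⟨m, rfl⟩)
    refine le_normalizer_of_conj (M := normalizer (R : Set 𝒢)) (fun m hm x hx => ?_) hn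
    obtain ⟨k, rfl⟩ := hx
    have h2 := zpow_mem (h1 m hm) k
    rwa [conj_zpow] at h2

/-- **the normalizer of a nontrivial 11-subgroup normalizes a Sylow 11-subgroup** -/
theorem norm_eleven {G : Type u} [Group G] [Finite G] (e0 : 𝒢 ≃* G) {R : Subgroup G} (hR : R ≠ ⊥)
    (hRp : IsPGroup 11 R) : ∃ V : Sylow 11 G, normalizer (R : Set G) ≤ normalizer ((V : Subgroup G) : Set G) := by
  have f11 : Fact (Nat.Prime 11) := ⟨by norm_num⟩
  obtain ⟨V, hV⟩ := hRp.exists_le_sylow
  obtain ⟨e, he⟩ := Transfer.exists_equiv e0 SylEleven.isPGroup_U SylEleven.not_dvd_U V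
  refine ⟨V, ?_⟩
  have h1 : (R.map e.symm.toMonoidHom).map e.toMonoidHom = R := by
    ext x
    constructor
    · rintro ⟨_, ⟨y, hy, rfl⟩, rfl⟩
      change e (e.symm y) ∈ R
      rwa [MulEquiv.apply_symm_apply]
    · intro hx
      exact ⟨e.symm x, ⟨x, hx, rfl⟩, e.apply_symm_apply x⟩
  have h2 : R.map e.symm.toMonoidHom ≤ U := by
    rintro _ ⟨x, hx, rfl⟩
    have h3 := hV hx
    rw [← he] at h3
    obtain ⟨v, hv, rfl⟩ := h3
    change e.symm (e v) ∈ U
    rw [MulEquiv.symm_apply_apply]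
    exact hv
  have h3 : R.map e.symm.toMonoidHom ≠ ⊥ := by
    intro h0
    apply hR
    rwa [Subgroup.map_eq_bot_iff_of_injective _ e.symm.injective] at h0
  generalize R.map e.symm.toMonoidHom = R' at h1 h2 h3
  subst h1
  rw [← he, Transfer.map_normalizer, Transfer.map_normalizer]
  exact Subgroup.map_mono (f := e.toMonoidHom) (norm_le h3 h2)

end Cfsg.Agent.H820.J4L
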