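import Cfsg.Agent.H860.MaxBase
import Cfsg.Agent.H859.CentC
import Cfsg.Agent.H859.ClassEleven
import Cfsg.Agent.H859.BigNum
import Cfsg.Agent.H277.ClsPsl
import Cfsg.Agent.H397.ZAut
import Cfsg.Agent.S5563
import Cfsg.Agent.S5564
import Cfsg.Agent.S5574

/-!
# The maximal subgroups of `J4` with a nontrivial normal `p`-subgroup, `p` odd (helper820)
-/

set_option autoImplicit false

namespace Cfsg.Agent.H820.J4L

open Cfsg Subgroup
open Cfsg.Agent.OrdDiv
open Cfsg.Agent.H866.J4Ord Cfsg.Agent.H866.J4Min Cfsg.Agent.H866.OddTools Cfsg.Agent.H866.J4Odd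
open Cfsg.Agent.OddOrderLocal.SylIn

universe u

section general

variable {G : Type u} [Group G]

/-- a maximal subgroup of a simple group is the normalizer of its nontrivial normal subgroups -/
theorem eq_normalizer [IsSimpleGroup G] {M R : Subgroup G} (hM : IsCoatom M) (hR : R ≠ ⊥) (hRM : R ≤ M)
    (hn : M ≤ normalizer (R : Set G)) : M = normalizer (R : Set G) := by
  by_contra hne
  have h1 : normalizer (R : Set G) = ⊤ := hM.2 _ (lt_of_le_of_ne hn hne)
  have h2 : R.Normal := Subgroup.normalizer_eq_top_iff.1 h1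
  rcases h2.eq_bot_or_eq_top with h3 | h3
  · exact hR h3
  · exact hM.1 (top_le_iff.1 (h3 ▸ hRM))

theorem le_normalizer_of_conj {E M : Subgroup G} (h : ∀ m ∈ M, ∀ x ∈ E, m * x * m⁻¹ ∈ E) :
    M ≤ normalizer (E : Set G) := by
  intro m hm
  rw [mem_normalizer_iff]
  intro x
  refine ⟨fun hx => h m hm x hx, fun hx => ?_⟩
  have h1 := h m⁻¹ (inv_mem hm) _ hx
  have h2 : m⁻¹ * (m * x * m⁻¹) * m⁻¹⁻¹ = x := by group
  rwa [h2] at h1

/-- a nontrivial normal elementary abelian subgroup in a nontrivial normal `p`-subgroup -/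
theorem exists_ea [Finite G] {p : ℕ} [hp : Fact p.Prime] {M R : Subgroup G} (hR : R ≠ ⊥)
    (hn : M ≤ normalizer (R : Set G)) (hRp : IsPGroup p R) :
    ∃ E : Subgroup G, E ≤ R ∧ E ≠ ⊥ ∧ M ≤ normalizer (E : Set G) ∧ IsElementaryAbelian p E := by
  let E : Subgroup G :=
    { carrier := {x | x ∈ R ∧ x ^ p = 1 ∧ ∀ y ∈ R, x * y = y * x}
      one_mem' := ⟨one_mem _, one_pow _, fun y _ => by rw [one_mul, mul_one]⟩
      mul_mem' := by
        rintro a b ⟨ha, ha1, ha2⟩ ⟨hb, hb1, hb2⟩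
        refine ⟨mul_mem ha hb, ?_, fun y hy => ?_⟩
        · have : Commute a b := ha2 b hb
          rw [this.mul_pow, ha1, hb1, one_mul]
        · rw [mul_assoc, hb2 y hy, ← mul_assoc, ha2 y hy, mul_assoc]
      inv_mem' := by
        rintro a ⟨ha, ha1, ha2⟩
        refine ⟨inv_mem ha, by rw [inv_pow, ha1, inv_one], fun y hy => ?_⟩
        have : Commute a y := ha2 y hy
        exact this.inv_left }
  have hE : ∀ x, x ∈ E ↔ x ∈ R ∧ x ^ p = 1 ∧ ∀ y ∈ R, x * y = y * x := fun x => Iff.rfl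
  refine ⟨E, fun x hx => ((hE x).1 hx).1, ?_, ?_, ?_, ?_⟩
  · have : Nontrivial R := (Subgroup.nontrivial_iff_ne_bot R).2 hR
    have h1 : Nontrivial (Subgroup.center R) := hRp.center_nontrivial
    have h2 : p ∣ Nat.card (Subgroup.center R) := by
      obtain ⟨n, hn⟩ := IsPGroup.iff_card.1 (hRp.to_subgroup (Subgroup.center R))
      rw [hn]
      refine dvd_pow_self p fun h0 => ?_
      rw [h0, pow_zero] at hn
      exact absurd Finite.one_lt_card (by rw [hn]; exact lt_irrefl 1)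
    obtain ⟨⟨⟨x, hxR⟩, hxc⟩, hx⟩ := exists_prime_orderOf_dvd_card' p h2
    rw [Subgroup.orderOf_mk, Subgroup.orderOf_mk] at hx
    intro h0
    have h3 : x ∈ E := (hE x).2 ⟨hxR, by rw [← hx, pow_orderOf_eq_one], fun y hy => by
      have := Subgroup.mem_center_iff.1 hxc ⟨y, hy⟩
      exact (congrArg Subtype.val this).symm⟩
    rw [h0, Subgroup.mem_bot] at h3
    rw [h3, orderOf_one] at hx
    exact hp.out.one_lt.ne hx
  · refine le_normalizer_of_conj fun m hm x hx => ?_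
    obtain ⟨h1, h2, h3⟩ := (hE x).1 hx
    refine (hE _).2 ⟨(mem_normalizer_iff.1 (hn hm) x).1 h1, ?_, fun y hy => ?_⟩
    · rw [conj_pow, h2, mul_one, mul_inv_cancel]
    · have h4 : m⁻¹ * y * m ∈ R := by
        have := (mem_normalizer_iff.1 (hn (inv_mem hm)) y).1 hy
        rwa [inv_inv] at this
      calc m * x * m⁻¹ * y = m * (x * (m⁻¹ * y * m)) * m⁻¹ := by group
        _ = m * (m⁻¹ * y * m * x) * m⁻¹ := by rw [h3 _ h4]
        _ = y * (m * x * m⁻¹) := by group
  · refine ⟨⟨fun a b => Subtype.ext ?_⟩⟩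
    exact ((hE a).1 a.2).2.2 b ((hE b).1 b.2).1
  · intro a ha
    exact ((hE a).1 ha).2.1

/-- the elements of order at most two in the centre of the centralizer -/
theorem exists_two {R : Subgroup G} {z : G} (hz : z * z = 1) (hz1 : z ≠ 1) (hzR : z ∈ centralizer (R : Set G))
    (hc : centralizer (R : Set G) ≤ centralizer {z}) :
    ∃ Q : Subgroup G, Q ≠ ⊥ ∧ IsPGroup 2 Q ∧ Q ≤ normalizer (R : Set G) ∧
      normalizer (R : Set G) ≤ normalizer (Q : Set G) := by
  let Q : Subgroup G :=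
    { carrier := {x | x ∈ centralizer (R : Set G) ∧ x ^ 2 = 1 ∧ ∀ y ∈ centralizer (R : Set G), x * y = y * x}
      one_mem' := ⟨one_mem _, one_pow _, fun y _ => by rw [one_mul, mul_one]⟩
      mul_mem' := by
        rintro a b ⟨ha, ha1, ha2⟩ ⟨hb, hb1, hb2⟩
        refine ⟨mul_mem ha hb, ?_, fun y hy => ?_⟩
        · have : Commute a b := ha2 b hb
          rw [this.mul_pow, ha1, hb1, one_mul]
        · rw [mul_assoc, hb2 y hy, ← mul_assoc, ha2 y hy, mul_assoc]
      inv_mem' := by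
        rintro a ⟨ha, ha1, ha2⟩
        refine ⟨inv_mem ha, by rw [inv_pow, ha1, inv_one], fun y hy => ?_⟩
        have : Commute a y := ha2 y hy
        exact this.inv_left }
  have hQ : ∀ x, x ∈ Q ↔ x ∈ centralizer (R : Set G) ∧ x ^ 2 = 1 ∧
      ∀ y ∈ centralizer (R : Set G), x * y = y * x := fun x => Iff.rfl
  have hCN : normalizer (R : Set G) ≤ normalizer (centralizer (R : Set G) : Set G) := by
    refine le_normalizer_of_conj fun m hm x hx => ?_
    rw [mem_centralizer_iff] at hx ⊢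
    intro r hr
    have h4 : m⁻¹ * r * m ∈ (R : Set G) := by
      have := (mem_normalizer_iff.1 (inv_mem hm) r).1 hr
      rwa [inv_inv] at this
    calc r * (m * x * m⁻¹) = m * (m⁻¹ * r * m * x) * m⁻¹ := by group
      _ = m * (x * (m⁻¹ * r * m)) * m⁻¹ := by rw [hx _ h4]
      _ = m * x * m⁻¹ * r := by group
  refine ⟨Q, ?_, ?_, fun x hx => Subgroup.centralizer_le_normalizer _ ((hQ x).1 hx).1, ?_⟩
  · intro h0
    have h1 : z ∈ Q := (hQ z).2 ⟨hzR, by rw [pow_two, hz], fun y hy =>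
      (mem_centralizer_singleton_iff.1 (hc hy)).symm⟩
    rw [h0, Subgroup.mem_bot] at h1
    exact hz1 h1
  · intro x
    exact ⟨1, Subtype.ext (by
      have := ((hQ x).1 x.2).2.1
      rw [pow_one]
      exact this)⟩
  · refine le_normalizer_of_conj fun m hm x hx => ?_
    obtain ⟨h1, h2, h3⟩ := (hQ x).1 hx
    refine (hQ _).2 ⟨(mem_normalizer_iff.1 (hCN hm) x).1 h1, ?_, fun y hy => ?_⟩
    · rw [conj_pow, h2, mul_one, mul_inv_cancel]
    · have h4 : m⁻¹ * y * m ∈ centralizer (R : Set G) := by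
        have := (mem_normalizer_iff.1 (hCN (inv_mem hm)) y).1 hy
        rwa [inv_inv] at this
      calc m * x * m⁻¹ * y = m * (x * (m⁻¹ * y * m)) * m⁻¹ := by group
        _ = m * (m⁻¹ * y * m * x) * m⁻¹ := by rw [h3 _ h4]
        _ = y * (m * x * m⁻¹) := by group

end general

section J4

variable {G : Type u} [Group G] [Finite G] [IsSimpleGroup G]

/-- `p = 3` -/
theorem local_three (hG : ¬ IsMulCommutative G) (hJ : Cfsg.IsOfJankoFourType G) {R : Subgroup G}
    (hR : R ≠ ⊥) (hRe : IsElementaryAbelian 3 R) :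
    ∃ Q : Subgroup G, Q ≠ ⊥ ∧ IsPGroup 2 Q ∧ Q ≤ normalizer (R : Set G) ∧
      normalizer (R : Set G) ≤ normalizer (Q : Set G) := by
  have f3 : Fact (Nat.Prime 3) := ⟨Nat.prime_three⟩
  have hconj := Cfsg.Agent.S5564.result hG hJ
  obtain ⟨z, P, h⟩ := hJ
  obtain ⟨-, -, -, -, hN⟩ := Cfsg.Agent.S5563.result hG z P h
  have hz2 : orderOf z = 2 := h.1
  have hP3 : Nat.card P = 3 := h.2.2.2.2.2.1
  obtain ⟨⟨p, hpP⟩, hp⟩ := exists_prime_orderOf_dvd_card' (G := P) 3 (by rw [hP3])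
  rw [Subgroup.orderOf_mk] at hp
  have hPp : P = Subgroup.zpowers p := by
    symm
    apply Subgroup.eq_of_le_of_card_ge
    · rw [Subgroup.zpowers_le]; exact hpP
    · rw [hP3, Nat.card_zpowers, hp]
  obtain ⟨⟨r, hrR⟩, hr1⟩ := (Subgroup.ne_bot_iff_exists_ne_one (H := R)).1 hR
  have hr3 : orderOf r = 3 := orderOf_eq_prime (hRe.2 r hrR) fun h0 => hr1 (Subtype.ext h0)
  obtain ⟨g, hg⟩ := isConj_iff.1 (hconj r p hr3 hp)
  have hC : centralizer (R : Set G) ≤ centralizer {g⁻¹ * z * g} := by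
    intro x hx
    have h1 : r * x = x * r := mem_centralizer_iff.1 hx r hrR
    have h2 : g * x * g⁻¹ ∈ centralizer (P : Set G) := by
      have h2 : Commute p (g * x * g⁻¹) := by
        change p * (g * x * g⁻¹) = (g * x * g⁻¹) * p
        rw [← hg]
        calc g * r * g⁻¹ * (g * x * g⁻¹) = g * (r * x) * g⁻¹ := by group
          _ = g * (x * r) * g⁻¹ := by rw [h1]
          _ = _ := by group
      rw [Subgroup.mem_centralizer_iff]
      intro h hh
      rw [hPp] at hh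
      obtain ⟨k, rfl⟩ := hh
      exact (h2.zpow_left k).eq
    have h3 := mem_centralizer_singleton_iff.1 (hN (Subgroup.centralizer_le_normalizer (P : Set G) h2))
    rw [mem_centralizer_singleton_iff]
    calc x * (g⁻¹ * z * g) = g⁻¹ * (g * x * g⁻¹ * z) * g := by group
      _ = g⁻¹ * (z * (g * x * g⁻¹)) * g := by rw [h3]
      _ = g⁻¹ * z * g * x := by group
  have hRC : R ≤ centralizer (R : Set G) := by
    intro x hx
    rw [mem_centralizer_iff]
    intro y hy
    exact congrArg Subtype.val (hRe.1.is_comm.comm ⟨y, hy⟩ ⟨x, hx⟩)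
  refine exists_two (z := g⁻¹ * z * g) ?_ ?_ ?_ hC
  · have h2 : z * z = 1 := by rw [← pow_two, ← hz2, pow_orderOf_eq_one]
    calc g⁻¹ * z * g * (g⁻¹ * z * g) = g⁻¹ * (z * z) * g := by group
      _ = 1 := by rw [h2]; group
  · intro h0
    have h1 : z = 1 := by
      have h3 : z = g * (g⁻¹ * z * g) * g⁻¹ := by group
      rw [h3, h0]; group
    rw [h1, orderOf_one] at hz2
    omega
  · rw [mem_centralizer_iff]
    intro y hy
    exact mem_centralizer_singleton_iff.1 (hC (hRC hy))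

omit [IsSimpleGroup G] in
/-- subgroups of prime order `p`, `p ^ 2 ∤ |G|` : transport of an overgroup of the normalizer -/
theorem over_conj (hc : Nat.card G = nJ) {p : ℕ} [Fact p.Prime] (hp : ¬ p ^ 2 ∣ nJ) {P K : Subgroup G}
    (hP : Nat.card P = p) (hK : normalizer (P : Set G) ≤ K) {R : Subgroup G} (hR : Nat.card R = p) :
    ∃ g : G, normalizer (R : Set G) ≤ K.map (MulAut.conj g).toMonoidHom := by
  obtain ⟨S, hS⟩ := Cfsg.Agent.H866.J4OddEnd.exists_sylow_eq hc (p := p) (n := 1) hp (P := P) (by rw [hP, pow_one])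
  obtain ⟨T, hT⟩ := Cfsg.Agent.H866.J4OddEnd.exists_sylow_eq hc (p := p) (n := 1) hp (P := R) (by rw [hR, pow_one])
  obtain ⟨g, hg⟩ := MulAction.exists_smul_eq G S T
  refine ⟨g, ?_⟩
  have h2 : P.map (MulAut.conj g).toMonoidHom = R := by
    have := congrArg (fun S : Sylow p G => (S : Subgroup G)) hg
    rw [← hS, ← hT]
    exact this
  rw [← h2, Cfsg.Agent.H859.Transfer.map_normalizer]
  exact map_mono hK

omit [IsSimpleGroup G] in
theorem card_of_ea (hc : Nat.card G = nJ) {p : ℕ} [hp : Fact p.Prime] (hp2 : ¬ p ^ 2 ∣ nJ) {R : Subgroup G} (hR : R ≠ ⊥)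
    (hRe : IsPGroup p R) : Nat.card R = p := by
  obtain ⟨j, hj⟩ := IsPGroup.iff_card.1 hRe
  have h1 : j ≠ 0 := by
    rintro rfl
    rw [pow_zero] at hj
    exact hR (Subgroup.card_eq_one.1 hj)
  have h2 : ¬ 2 ≤ j := fun h => hp2 ((pow_dvd_pow p h).trans (hj ▸ hc ▸ Subgroup.card_subgroup_dvd_card R))
  have h3 : j = 1 := by omega
  rw [hj, h3, pow_one]

omit [IsSimpleGroup G] in
theorem map_conj_ne_top {K : Subgroup G} (hK : K ≠ ⊤) (g : G) : K.map (MulAut.conj g).toMonoidHom ≠ ⊤ := by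
  intro h
  apply hK
  apply Subgroup.eq_top_of_card_eq
  rw [← Cfsg.Agent.H859.Transfer.card_map (MulAut.conj g) K, h, Subgroup.card_top]

omit [Finite G] [IsSimpleGroup G] in
theorem map_conj_normal {K : Subgroup G} {N : Subgroup G} (h : N ≤ normalizer (K : Set G)) (g : G) :
    N.map (MulAut.conj g).toMonoidHom ≤ normalizer ((K.map (MulAut.conj g).toMonoidHom : Subgroup G) : Set G) := by
  rw [Cfsg.Agent.H859.Transfer.map_normalizer]
  exact map_mono h

/-- `p = 5, 7` -/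
theorem local_five_seven (hG : ¬ IsMulCommutative G) (hJ : Cfsg.IsOfJankoFourType G) (hc : Nat.card G = nJ)
    {p : ℕ} [hp : Fact p.Prime] (h57 : p = 5 ∨ p = 7) {M R : Subgroup G} (hM : IsCoatom M) (hR : R ≠ ⊥)
    (hMR : M = normalizer (R : Set G)) (hRp : IsPGroup p R) :
    ∃ Q : Subgroup G, Q ≠ ⊥ ∧ IsPGroup 2 Q ∧ Q ≤ M ∧ M ≤ normalizer (Q : Set G) := by
  obtain ⟨L, -, hL, -, -, -, -, -, ⟨Q5, hQ5⟩, ⟨Q7, hQ7⟩⟩ := Cfsg.Agent.S5574.result hG hJ
  have hL1 : L ≠ ⊥ := by
    rintro rfl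
    rw [Subgroup.card_bot] at hL
    norm_num at hL
  have hLp : IsPGroup 2 L := IsPGroup.of_card hL
  have hNL : normalizer (L : Set G) ≠ ⊤ := by
    intro h
    have h2 : L.Normal := Subgroup.normalizer_eq_top_iff.1 h
    rcases h2.eq_bot_or_eq_top with h3 | h3
    · exact hL1 h3
    · rw [h3, Subgroup.card_top, hc] at hL
      norm_num [nJ] at hL
  have hp2 : ¬ p ^ 2 ∣ nJ := by
    rcases h57 with rfl | rfl <;> norm_num [nJ]
  have key : ∃ Q : Subgroup G, Nat.card Q = p ∧ normalizer (Q : Set G) ≤ normalizer (L : Set G) := by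
    have hcard : ∀ Q : Sylow p G, Nat.card (Q : Subgroup G) = p := by
      intro Q
      refine card_of_ea hc hp2 ?_ Q.2
      refine Q.ne_bot_of_dvd_card ?_
      rw [hc]
      rcases h57 with rfl | rfl <;> norm_num [nJ]
    rcases h57 with rfl | rfl
    · exact ⟨Q5, hcard Q5, hQ5⟩
    · exact ⟨Q7, hcard Q7, hQ7⟩
  obtain ⟨Q, hQ, hQL⟩ := key
  obtain ⟨g, hg⟩ := over_conj hc hp2 hQ hQL (card_of_ea hc hp2 hR hRp)
  have h1 : M = (normalizer (L : Set G)).map (MulAut.conj g).toMonoidHom := by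
    by_contra hne
    exact map_conj_ne_top hNL g (hM.2 _ (lt_of_le_of_ne (hMR ▸ hg) hne))
  refine ⟨L.map (MulAut.conj g).toMonoidHom, ?_, hLp.map _, ?_, ?_⟩
  · intro h0
    apply hL1
    rwa [Subgroup.map_eq_bot_iff_of_injective _ (MulAut.conj g).injective] at h0
  · rw [h1]
    exact map_mono Subgroup.le_normalizer
  · rw [h1]
    exact map_conj_normal le_rfl g

end J4

end Cfsg.Agent.H820.J4L
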